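import Mathlib.RingTheory.Flat.EquationalCriterion
import Mathlib.RingTheory.Flat.Equalizer
import Mathlib.RingTheory.PicardGroup
import Mathlib.RingTheory.LocalRing.Module
import Mathlib.LinearAlgebra.TensorProduct.Quotient

/-! Fibrewise criterion for invertibility. -/

namespace Groth.Agent.QFDLib

universe u

open TensorProduct

/-- If multiplication by `s ∈ T` on `M` factors `A`-linearly through a flat module, `T⁻¹M` is flat over `A`. -/
theorem flat_of_isLocalizedModule_of_factor {A R : Type u} [CommRing A] [CommRing R] [Algebra A R]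
    {M : Type u} [AddCommGroup M] [Module R M] [Module A M] [IsScalarTower A R M] (T : Submonoid R)
    {N : Type u} [AddCommGroup N] [Module R N] [Module A N] [IsScalarTower A R N] (f : M →ₗ[R] N)
    [IsLocalizedModule T f] {P : Type u} [AddCommGroup P] [Module A P] [Module.Flat A P]
    (γ : M →ₗ[A] P) (δ : P →ₗ[A] M) (s : T) (hs : ∀ m, δ (γ m) = (s : R) • m) : Module.Flat A N := by
  classical
  have : SMulCommClass R A M := ⟨fun r a m => by
    rw [← algebraMap_smul R a, ← algebraMap_smul R a, smul_comm]⟩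
  have : SMulCommClass R A N := ⟨fun r a m => by
    rw [← algebraMap_smul R a, ← algebraMap_smul R a, smul_comm]⟩
  rw [Module.Flat.iff_forall_isTrivialRelation]
  intro l c x hx
  obtain ⟨t, ht⟩ := IsLocalizedModule.exist_integer_multiples_of_finite T f x
  choose m hm using ht
  have hsum : f (∑ i, c i • m i) = 0 := by
    rw [map_sum]
    calc (∑ i, f (c i • m i)) = (t : R) • ∑ i, c i • x i := by
          rw [Finset.smul_sum]
          refine Finset.sum_congr rfl fun i _ => ?_
          rw [f.map_smul_of_tower, smul_comm (t : R) (c i) (x i)]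
          exact congrArg _ (hm i)
      _ = 0 := by rw [hx, smul_zero]
  obtain ⟨v, hv⟩ := (IsLocalizedModule.eq_zero_iff T f).1 hsum
  have hrel : ∑ i, c i • γ ((v : R) • m i) = 0 := by
    simp only [← map_smul, ← map_sum, smul_comm (c _) (v : R), ← Finset.smul_sum]
    rw [show (v : R) • ∑ i, c i • m i = 0 from hv, map_zero]
  obtain ⟨k, a, y, hy, ha⟩ := Module.Flat.isTrivialRelation_of_sum_smul_eq_zero hrel
  have hu := IsLocalizedModule.map_units f (s * v * t)
  choose z hz using fun j => ((Module.End.isUnit_iff _).1 hu).2 (f (δ (y j)))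
  refine ⟨k, a, z, fun i => ?_, ha⟩
  refine ((Module.End.isUnit_iff _).1 hu).1 ?_
  have h1 := congrArg (fun w => f (δ w)) (hy i)
  simp only [hs, map_sum, map_smul, LinearMap.map_smul_of_tower] at h1
  show ((s * v * t : T) : R) • x i = ((s * v * t : T) : R) • ∑ j, a i j • z j
  rw [Finset.smul_sum, Submonoid.coe_mul, Submonoid.coe_mul, mul_smul, mul_smul]
  refine Eq.trans ?_ (h1.trans (Finset.sum_congr rfl fun j _ => ?_))
  · rw [show (t : R) • x i = f (m i) from (hm i).symm]
  · rw [smul_comm _ (a i j), ← hz j]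
    rfl

/-- A finite module over a local ring, flat over the base, invertible on the closed fibre, is free of rank one. -/
theorem nonempty_equiv_of_fibre {A L : Type u} [CommRing A] [CommRing L] [IsLocalRing L] [IsNoetherianRing L]
    [Algebra A L] {N : Type u} [AddCommGroup N] [Module L N] [Module A N] [IsScalarTower A L N]
    [Module.Finite L N] [Module.Flat A N] (p : Ideal A) (hp : p.map (algebraMap A L) ≠ ⊤)
    (hinv : Module.Invertible (L ⧸ p.map (algebraMap A L)) ((L ⧸ p.map (algebraMap A L)) ⊗[L] N)) :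
    Nonempty (N ≃ₗ[L] L) := by
  classical
  set J := p.map (algebraMap A L) with hJ
  have : Nontrivial (L ⧸ J) := Ideal.Quotient.nontrivial_iff.2 hp
  have : IsLocalRing (L ⧸ J) := IsLocalRing.of_surjective' (Ideal.Quotient.mk J) Ideal.Quotient.mk_surjective
  obtain ⟨e₁⟩ := Module.Invertible.free_iff_linearEquiv.1
    (inferInstance : Module.Free (L ⧸ J) ((L ⧸ J) ⊗[L] N))
  let e : (N ⧸ J • (⊤ : Submodule L N)) ≃ₗ[L] (L ⧸ J) :=
    (TensorProduct.quotTensorEquivQuotSMul N J).symm ≪≫ₗ e₁.restrictScalars L
  have hJm : J ≤ IsLocalRing.maximalIdeal L := IsLocalRing.le_maximalIdeal hp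
  have hjac : J ≤ (⊥ : Ideal L).jacobson := by
    rwa [IsLocalRing.jacobson_eq_maximalIdeal _ bot_ne_top]
  obtain ⟨n, hn⟩ := Submodule.Quotient.mk_surjective _ (e.symm 1)
  let g : L →ₗ[L] N := LinearMap.toSpanSingleton L N n
  have heg : ∀ b : L, e (Submodule.Quotient.mk (g b)) = Ideal.Quotient.mk J b := by
    intro b
    show e (Submodule.Quotient.mk (b • n)) = _
    rw [Submodule.Quotient.mk_smul, hn, map_smul, LinearEquiv.apply_symm_apply, Algebra.smul_def, mul_one]
    rfl
  have hsurj : Function.Surjective g := by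
    rw [← LinearMap.range_eq_top, eq_top_iff]
    refine Submodule.le_of_le_smul_of_le_jacobson_bot (Module.Finite.fg_top) hjac fun x _ => ?_
    obtain ⟨b, hb⟩ := Ideal.Quotient.mk_surjective (e (Submodule.Quotient.mk x))
    rw [← heg, e.injective.eq_iff, Submodule.Quotient.eq] at hb
    rw [show x = g b - (g b - x) by abel]
    exact sub_mem (Submodule.mem_sup_left (LinearMap.mem_range_self g b)) (Submodule.mem_sup_right hb)
  let K : Submodule L L := LinearMap.ker g
  have hKJ : ∀ b ∈ K, b ∈ J := fun b hb => by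
    rw [← Ideal.Quotient.eq_zero_iff_mem, ← heg, LinearMap.mem_ker.1 hb]
    simp
  have hK : K = ⊥ := by
    refine Submodule.eq_bot_of_le_smul_of_le_jacobson_bot J K (IsNoetherian.noetherian K) ?_ hjac
    intro b hb
    let i : K →ₗ[A] L := K.subtype.restrictScalars A
    have hinj := LinearMap.lTensor_injective_of_exact_of_flat (g.restrictScalars A) hsurj i
      K.subtype_injective (fun x => by
        constructor
        · intro hx; exact ⟨⟨x, hx⟩, rfl⟩
        · rintro ⟨y, rfl⟩; exact y.2) (A ⧸ p)
    have h1 : (1 : A ⧸ p) ⊗ₜ[A] (⟨b, hb⟩ : K) = 0 := by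
      refine hinj ?_
      rw [LinearMap.lTensor_tmul, map_zero, ← (TensorProduct.quotTensorEquivQuotSMul L p).map_eq_zero_iff,
        ← map_one (Ideal.Quotient.mk p), TensorProduct.quotTensorEquivQuotSMul_mk_tmul, one_smul,
        Submodule.Quotient.mk_eq_zero, Ideal.smul_top_eq_map, Submodule.restrictScalars_mem]
      exact hKJ b hb
    rw [← (TensorProduct.quotTensorEquivQuotSMul K p).map_eq_zero_iff, ← map_one (Ideal.Quotient.mk p),
      TensorProduct.quotTensorEquivQuotSMul_mk_tmul, one_smul, Submodule.Quotient.mk_eq_zero] at h1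
    have h2 : ∀ z ∈ p • (⊤ : Submodule A K), (z : L) ∈ J • K := by
      intro z hz
      refine Submodule.smul_induction_on hz (fun a ha y _ => ?_) (fun u v hu hv => add_mem hu hv)
      show ((a • y : K) : L) ∈ _
      rw [Submodule.coe_smul_of_tower, ← algebraMap_smul L a (y : L)]
      exact Submodule.smul_mem_smul (Ideal.mem_map_of_mem _ ha) y.2
    exact h2 _ h1
  exact ⟨(LinearEquiv.ofBijective g ⟨LinearMap.ker_eq_bot.1 hK, hsurj⟩).symm⟩

end Groth.Agent.QFDLib
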