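import Groth.Prelude.Def_QFDual
import Groth.Agent.TraceEtale.Basic
import Mathlib.RingTheory.Localization.NormTrace

/-! The Dedekind complementary module. -/

namespace Groth.Agent.QFDLib

variable {A K B L : Type*} [CommRing A] [CommRing K] [CommRing B] [CommRing L] [Algebra A K] [Algebra A B]
  [Algebra B L] [Algebra K L] [Algebra A L] [IsScalarTower A K L] [IsScalarTower A B L]
  (h : QFDual.IsDedekindDefined A K B L)

include h

theorem algebraMap_injective_K : Function.Injective (algebraMap A K) := by
  have := h.isFractionRing
  exact IsFractionRing.injective A K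

/-- Forms on `B` extend to `L`. -/
theorem exists_form_extend (φ : B →ₗ[A] A) :
    ∃ Ψ : L →ₗ[K] K, ∀ b, Ψ (algebraMap B L b) = algebraMap A K (φ b) := by
  have := h.isFractionRing
  have := h.isLocalization
  have : IsLocalizedModule (nonZeroDivisors A) (IsScalarTower.toAlgHom A B L).toLinearMap :=
    isLocalizedModule_iff_isLocalization.2 inferInstance
  have hunit : ∀ x : nonZeroDivisors A, IsUnit (algebraMap A (Module.End A K) x) := fun x => (Module.End.isUnit_iff _).2 (by
      have hu : IsUnit (algebraMap A K x) := IsLocalization.map_units K x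
      exact ⟨fun a b hab => hu.mul_left_cancel (by simpa [Algebra.smul_def] using hab),
        fun a => ⟨↑hu.unit⁻¹ * a, by simp [Algebra.smul_def, ← mul_assoc]⟩⟩)
  let Ψ := IsLocalizedModule.lift (nonZeroDivisors A) (IsScalarTower.toAlgHom A B L).toLinearMap
    ((Algebra.linearMap A K).comp φ) hunit
  refine ⟨Ψ.extendScalarsOfIsLocalization (nonZeroDivisors A) K, fun b => ?_⟩
  exact LinearMap.congr_fun (IsLocalizedModule.lift_comp (nonZeroDivisors A) (IsScalarTower.toAlgHom A B L).toLinearMap
    ((Algebra.linearMap A K).comp φ) hunit) b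

theorem ext_on_B {f g : L →ₗ[K] K} (e : ∀ b, f (algebraMap B L b) = g (algebraMap B L b)) : f = g := by
  have := h.isFractionRing
  have := h.isLocalization
  ext l
  obtain ⟨⟨b, ⟨_, a, ha, rfl⟩⟩, hl⟩ := IsLocalization.surj (Algebra.algebraMapSubmonoid B (nonZeroDivisors A)) l
  have hu : IsUnit (algebraMap A K a) := IsLocalization.map_units K (⟨a, ha⟩ : nonZeroDivisors A)
  refine hu.mul_left_cancel ?_
  have h1 : algebraMap A K a • l = algebraMap B L b := by
    rw [Algebra.smul_def, ← IsScalarTower.algebraMap_apply, IsScalarTower.algebraMap_apply A B L, mul_comm]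
    exact hl
  rw [← smul_eq_mul, ← smul_eq_mul, ← map_smul, ← map_smul, h1, e]

theorem trace_retract {n : ℕ} (π : (Fin n → A) →ₗ[A] B) (s : B →ₗ[A] (Fin n → A)) (hs : π.comp s = LinearMap.id)
    (b : B) :
    Algebra.trace K L (algebraMap B L b) = algebraMap A K (∑ i, s (b * π (Pi.single i 1)) i) := by
  have := h.free
  have := h.finiteKL
  choose Ψ hΨ using fun i => exists_form_extend h ((LinearMap.proj i).comp s)
  have hid : ∀ l : L, l = ∑ i, Ψ i l • algebraMap B L (π (Pi.single i 1)) := by
    intro l
    have := h.isLocalization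
    obtain ⟨⟨b', ⟨_, a, ha, rfl⟩⟩, hl⟩ := IsLocalization.surj (Algebra.algebraMapSubmonoid B (nonZeroDivisors A)) l
    have hu : IsUnit (algebraMap A L a) := by
      rw [IsScalarTower.algebraMap_apply A B L]
      exact IsLocalization.map_units L (⟨_, a, ha, rfl⟩ : Algebra.algebraMapSubmonoid B (nonZeroDivisors A))
    refine hu.mul_left_cancel ?_
    have h1 : algebraMap A K a • l = algebraMap B L b' := by
      rw [Algebra.smul_def, ← IsScalarTower.algebraMap_apply, IsScalarTower.algebraMap_apply A B L, mul_comm]
      exact hl
    rw [IsScalarTower.algebraMap_apply A K L, ← Algebra.smul_def, ← Algebra.smul_def, Finset.smul_sum]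
    simp only [smul_smul, ← smul_eq_mul (algebraMap A K a), ← map_smul, h1, hΨ, LinearMap.comp_apply, LinearMap.proj_apply]
    conv_lhs => rw [← show π (s b') = b' from LinearMap.congr_fun hs b', pi_eq_sum_univ' (s b'), map_sum, map_sum]
    refine Finset.sum_congr rfl fun i _ => ?_
    rw [map_smul, Algebra.smul_def, map_mul, Algebra.smul_def]
    congr 1
    exact (IsScalarTower.algebraMap_apply A B L _).symm.trans (IsScalarTower.algebraMap_apply A K L _)
  have hmul : Algebra.lmul K L (algebraMap B L b) =
      ∑ i, (Ψ i).smulRight (algebraMap B L (b * π (Pi.single i 1))) := by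
    refine LinearMap.ext fun l => ?_
    simp only [LinearMap.coe_sum, Finset.sum_apply, LinearMap.smulRight_apply]
    show algebraMap B L b * l = _
    conv_lhs => rw [hid l, Finset.mul_sum]
    refine Finset.sum_congr rfl fun i _ => ?_
    rw [mul_smul_comm, ← map_mul]
  rw [Algebra.trace_apply, hmul, map_sum, map_sum]
  exact Finset.sum_congr rfl fun i _ => by rw [LinearMap.trace_smulRight, hΨ]; rfl

theorem one_mem_complementary [Module.Projective A B] : (1 : L) ∈ QFDual.complementary A K B L := by
  have := h.finite
  obtain ⟨n, π, hπ⟩ := Module.Finite.exists_fin' A B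
  obtain ⟨s, hs⟩ := Module.projective_lifting_property π LinearMap.id hπ
  intro b
  rw [one_mul, trace_retract h π s hs b]
  exact ⟨_, rfl⟩

theorem exists_complementary_equiv :
    ∃ e : QFDual.complementary A K B L ≃ₗ[B] Disc.Omega A B, ∀ (x : QFDual.complementary A K B L) (b : B),
      algebraMap A K ((e x).toLinearMap b) = Algebra.trace K L ((x : L) * algebraMap B L b) := by
  have := h.free
  have := h.finiteKL
  have := h.etale
  have hb := Groth.Agent.TraceEtale.Basic.bijective_traceForm K L
  have hinj := algebraMap_injective_K h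
  choose v hv using fun (x : QFDual.complementary A K B L) (b : B) => x.2 b
  let F : QFDual.complementary A K B L →ₗ[B] Disc.Omega A B :=
    { toFun := fun x => Disc.Omega.mk
        { toFun := v x
          map_add' := fun b c => hinj (by rw [map_add, hv, hv, hv, map_add, mul_add, map_add])
          map_smul' := fun a b => hinj (by
            rw [RingHom.id_apply, smul_eq_mul, map_mul, hv, hv, Algebra.smul_def a b, map_mul (algebraMap B L), mul_left_comm,
              ← IsScalarTower.algebraMap_apply, IsScalarTower.algebraMap_apply A K L, ← Algebra.smul_def, map_smul,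
              smul_eq_mul]) }
      map_add' := fun x y => Disc.Omega.ext (LinearMap.ext fun b => hinj (by
        show algebraMap A K (v (x + y) b) = algebraMap A K (v x b + v y b)
        rw [map_add, hv, hv, hv, Submodule.coe_add, add_mul, map_add]))
      map_smul' := fun c x => Disc.Omega.ext (LinearMap.ext fun b => hinj (by
        show algebraMap A K (v (c • x) b) = algebraMap A K (v x (c * b))
        rw [hv, hv, Submodule.coe_smul, Algebra.smul_def, map_mul (algebraMap B L)]
        ring_nf)) }
  have hF : Function.Bijective F := by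
    constructor
    · intro x y hxy
      refine Subtype.ext (hb.1 (ext_on_B h fun b => ?_))
      rw [Algebra.traceForm_apply, Algebra.traceForm_apply, ← hv, ← hv]
      exact congrArg (fun φ : Disc.Omega A B => algebraMap A K (φ.toLinearMap b)) hxy
    · intro φ
      obtain ⟨Ψ, hΨ⟩ := exists_form_extend h φ.toLinearMap
      obtain ⟨x, hx⟩ := hb.2 Ψ
      have hx' : ∀ b, Algebra.trace K L (x * algebraMap B L b) = algebraMap A K (φ.toLinearMap b) := fun b => by
        rw [← hΨ, ← hx, Algebra.traceForm_apply]
      exact ⟨⟨x, fun b => ⟨_, (hx' b).symm⟩⟩, Disc.Omega.ext (LinearMap.ext fun b => hinj ((hv _ b).trans (hx' b)))⟩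
  exact ⟨LinearEquiv.ofBijective F hF, fun x b => hv x b⟩

end Groth.Agent.QFDLib
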