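import Groth.Agent.QFDLib.DualBC
import Mathlib.RingTheory.PicardGroup
import Mathlib.RingTheory.LocalRing.Module
import Mathlib.RingTheory.Flat.Stability
import Mathlib.LinearAlgebra.Trace
import Mathlib.RingTheory.Localization.NormTrace
import Mathlib.LinearAlgebra.Contraction

/-! Differents under base change, finite free case. -/

namespace Groth.Agent.QFDLib

universe u

open TensorProduct

theorem invertible_swap {R : Type*} [CommRing R] {M : Type*} [AddCommGroup M] [Module R M] [Module.Invertible R M]
    (f : Module.Dual R M) (x m : M) : f x • m = f m • x := by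
  have hb : Function.Bijective (contractLeft R M) := Module.Invertible.bijective
  obtain ⟨t, ht⟩ := hb.2 1
  let S : M →ₗ[R] M := dualTensorHom R M M t
  have h1 : ∀ (f : Module.Dual R M) x m, f m • x = f x • S m := by
    intro f x m
    have e : f ⊗ₜ[R] x = f x • t := hb.1 (by rw [map_smul, ht, contractLeft_apply, smul_eq_mul, mul_one])
    have := congrArg (fun z => dualTensorHom R M M z m) e
    simpa only [dualTensorHom_apply, map_smul, LinearMap.smul_apply] using this
  obtain ⟨G, hG⟩ := TensorProduct.exists_finset t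
  have hspan : Ideal.span ((fun c : R => c ^ 2) '' Set.range fun p : Module.Dual R M × M => p.1 p.2) = ⊤ := by
    refine Ideal.span_pow_eq_top _ ?_ 2
    rw [Ideal.eq_top_iff_one, ← ht, hG, map_sum]
    exact Submodule.sum_mem _ fun p _ => by rw [contractLeft_apply]; exact Ideal.subset_span ⟨p, rfl⟩
  have hS : ∀ m, S m = m := by
    intro m
    have key : ∀ c ∈ Ideal.span ((fun c : R => c ^ 2) '' Set.range fun p : Module.Dual R M × M => p.1 p.2),
        c • S m = c • m := by
      intro c hc
      induction hc using Submodule.span_induction with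
      | zero => simp
      | add a b _ _ ha hb => rw [add_smul, add_smul, ha, hb]
      | smul a b _ hb => rw [smul_eq_mul, mul_smul, mul_smul, hb]
      | mem c hc =>
        obtain ⟨-, ⟨⟨g, n⟩, rfl⟩, rfl⟩ := hc
        show g n ^ 2 • S m = g n ^ 2 • m
        have a1 : g n • S m = g m • n := (h1 g n m).symm
        have a2 : g n • m = g m • S n := by
          have b1 := h1 g m n
          exact b1
        have b3 : g n • S n = g n • n := (h1 g n n).symm
        rw [sq, mul_smul, mul_smul, a1, a2, smul_comm (g n) (g m), smul_comm (g n) (g m), b3]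
    simpa using key 1 (hspan ▸ Submodule.mem_top)
  rw [h1 f m x, hS]

section Free

variable {A B A' B' : Type u} [CommRing A] [CommRing B] [CommRing A'] [CommRing B'] [Algebra A B]
  [Module.Finite A B] [Module.Free A B] [Algebra A A'] [Algebra B B'] [Algebra A' B'] [Algebra A B']
  [IsScalarTower A A' B'] [IsScalarTower A B B'] (hB : Algebra.IsPushout A A' B B')

include hB

/-- Forms on `ω` extend uniquely to the base change. -/
theorem exists_omega_equiv :
    ∃ L : B' ⊗[B] Disc.Omega A B ≃ₗ[B'] Disc.Omega A' B', ∀ φ, L (1 ⊗ₜ φ) = QFDual.bcFin hB φ := by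
  let e := (Module.Free.chooseBasis A B).equivFun
  let e' : (Module.Free.ChooseBasisIndex A B → A) ≃ₗ[A] (Fin (Fintype.card (Module.Free.ChooseBasisIndex A B)) → A) :=
    LinearEquiv.funCongrLeft A A (Fintype.equivFin _).symm
  have hb := omegaBC_bijective_of_kills hB B' {1} (by simp) (fun s hs =>
    ⟨_, (e.trans e').toLinearMap, (e.trans e').symm.toLinearMap, LinearMap.ext fun x => by
      rw [Set.mem_singleton_iff.1 hs, LinearMap.comp_apply, LinearMap.mulLeft_apply, one_mul]
      exact (e.trans e').symm_apply_apply x⟩)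
  exact ⟨(LinearEquiv.ofBijective _ hb).trans (TensorProduct.lid B' _), fun φ => by simp⟩

theorem bcFin_trace [Module.Finite A' B'] [Module.Free A' B'] :
    QFDual.bcFin hB (Disc.Omega.trace A B) = Disc.Omega.trace A' B' := by
  refine Disc.Omega.ext ?_
  refine hB.out.algHom_ext _ _ fun v => ?_
  refine (QFDual.bcFin_apply_algebraMap hB _ v).trans ?_
  show algebraMap A A' (Algebra.trace A B v) = Algebra.trace A' B' (algebraMap B B' v)
  rw [Algebra.trace_apply, Algebra.trace_apply, ← LinearMap.trace_baseChange,
    ← LinearMap.trace_conj' _ hB.out.equiv]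
  congr 1
  refine hB.out.algHom_ext _ _ fun w => ?_
  show hB.out.equiv ((Algebra.lmul A B v).baseChange A' (hB.out.equiv.symm ((IsScalarTower.toAlgHom A B B').toLinearMap w))) = _
  rw [IsBaseChange.equiv_symm_apply, LinearMap.baseChange_tmul, IsBaseChange.equiv_tmul, one_smul]
  simp

variable [Module.Finite A' B'] [Module.Free A' B']

theorem map_different_le :
    Ideal.map (algebraMap B B') (QFDual.different B (Disc.Omega.trace A B)) ≤
      QFDual.different B' (Disc.Omega.trace A' B') := by
  obtain ⟨L, hL⟩ := exists_omega_equiv hB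
  rw [Ideal.map_le_iff_le_comap]
  intro b hb
  rw [QFDual.mem_different_iff] at hb
  rw [Ideal.mem_comap, QFDual.mem_different_iff]
  intro m
  obtain ⟨z, rfl⟩ := L.surjective m
  induction z with
  | zero => exact ⟨0, by simp⟩
  | add x y hx hy =>
    obtain ⟨c, hc⟩ := hx
    obtain ⟨d, hd⟩ := hy
    exact ⟨c + d, by rw [add_smul, hc, hd, map_add, smul_add]⟩
  | tmul w φ =>
    obtain ⟨c, hc⟩ := hb φ
    refine ⟨w * algebraMap B B' c, ?_⟩
    rw [show w ⊗ₜ[B] φ = w • ((1 : B') ⊗ₜ[B] φ) by rw [TensorProduct.smul_tmul', smul_eq_mul, mul_one],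
      map_smul, hL, smul_comm (algebraMap B B' b) w, ← LinearMap.map_smulₛₗ, ← hc, LinearMap.map_smulₛₗ,
      bcFin_trace hB, mul_smul]

theorem different_le_radical :
    QFDual.different B' (Disc.Omega.trace A' B') ≤
      (Ideal.map (algebraMap B B') (QFDual.different B (Disc.Omega.trace A B))).radical := by
  obtain ⟨L, hL⟩ := exists_omega_equiv hB
  rw [Ideal.radical_eq_sInf]
  refine le_sInf ?_
  rintro q' ⟨hle, hq'⟩ b' hb'
  rw [Ideal.map_le_iff_le_comap] at hle
  let q : PrimeSpectrum B := ⟨q'.comap (algebraMap B B'), hq'.comap _⟩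
  have : Module.Finite B (Disc.Omega A B) :=
    let := omegaModule A B
    have : IsScalarTower A B (Disc.Omega A B) := IsScalarTower.of_algebraMap_smul fun _ _ => rfl
    have : Module.Finite A (Disc.Omega A B) := Module.Finite.equiv (M := Module.Dual A B)
      { toFun := Disc.Omega.mk
        map_add' := fun _ _ => rfl
        map_smul' := fun a φ => Disc.Omega.ext (LinearMap.ext fun x => by
          show a • φ x = φ (algebraMap A B a * x)
          rw [← Algebra.smul_def, map_smul])
        invFun := Disc.Omega.toLinearMap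
        left_inv := fun _ => rfl
        right_inv := fun _ => rfl }
    Module.Finite.of_restrictScalars_finite A B _
  let N := Submodule.span B {Disc.Omega.trace A B}
  have hsupp : q ∈ Module.support B (Disc.Omega A B ⧸ N) := by
    rw [Module.support_eq_zeroLocus, PrimeSpectrum.mem_zeroLocus, SetLike.coe_subset_coe]
    intro b hb
    refine hle ?_
    rw [QFDual.mem_different_iff]
    intro m
    have h0 := Module.mem_annihilator.1 hb (Submodule.Quotient.mk m)
    rw [← Submodule.Quotient.mk_smul, Submodule.Quotient.mk_eq_zero] at h0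
    exact Submodule.mem_span_singleton.1 h0
  rw [Module.mem_support_iff_nontrivial_residueField_tensorProduct] at hsupp
  obtain ⟨z, hz⟩ := exists_ne (0 : q.asIdeal.ResidueField ⊗[B] (Disc.Omega A B ⧸ N))
  obtain ⟨f, hf⟩ : ∃ f : Module.Dual q.asIdeal.ResidueField (q.asIdeal.ResidueField ⊗[B] (Disc.Omega A B ⧸ N)), f z ≠ 0 := by
    by_contra h
    push Not at h
    exact hz ((Module.forall_dual_apply_eq_zero_iff _ z).1 h)
  let g : Disc.Omega A B →ₗ[B] q.asIdeal.ResidueField :=
    (f.restrictScalars B).comp ((TensorProduct.mk B _ _ 1).comp N.mkQ)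
  have hgτ : g (Disc.Omega.trace A B) = 0 := by
    simp [g, (Submodule.Quotient.mk_eq_zero N).2 (Submodule.mem_span_singleton_self _)]
  have hg : ∃ φ, g φ ≠ 0 := by
    by_contra h
    push Not at h
    refine hf ?_
    induction z with
    | zero => simp
    | add x y hx hy =>
      by_cases h1 : f x = 0
      · by_cases h2 : f y = 0
        · rw [map_add, h1, h2, add_zero]
        · exact absurd (hy (fun e => h2 (by rw [e, map_zero])) h2) h2
      · exact absurd (hx (fun e => h1 (by rw [e, map_zero])) h1) h1
    | tmul a y =>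
      obtain ⟨φ, rfl⟩ := N.mkQ_surjective y
      rw [show a ⊗ₜ[B] N.mkQ φ = a • ((1 : q.asIdeal.ResidueField) ⊗ₜ[B] N.mkQ φ) by
        rw [TensorProduct.smul_tmul', smul_eq_mul, mul_one], map_smul]
      exact (congrArg (a • ·) (h φ)).trans (smul_zero a)
  obtain ⟨φ, hφ⟩ := hg
  let κ : q.asIdeal.ResidueField →+* q'.ResidueField := Ideal.ResidueField.map q.asIdeal q' (algebraMap B B') rfl
  let g₀ : Disc.Omega A B →ₗ[B] q'.ResidueField :=
    { toFun := fun x => κ (g x)
      map_add' := fun x y => by rw [map_add, map_add]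
      map_smul' := fun b x => by
        rw [RingHom.id_apply, map_smul, Algebra.smul_def, map_mul, Algebra.smul_def b (κ (g x)),
          IsScalarTower.algebraMap_apply B B' q'.ResidueField]
        congr 1
        exact Ideal.ResidueField.map_algebraMap q.asIdeal q' (algebraMap B B') rfl b }
  let g' : Disc.Omega A' B' →ₗ[B'] q'.ResidueField := (g₀.liftBaseChange B').comp L.symm.toLinearMap
  have hg' : ∀ x, g' (QFDual.bcFin hB x) = κ (g x) := fun x => by
    simp [g', ← hL, g₀]
  obtain ⟨c, hc⟩ := (QFDual.mem_different_iff B' _ b').1 hb' (QFDual.bcFin hB φ)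
  have h2 := congrArg g' hc
  rw [map_smul, map_smul, ← bcFin_trace hB, hg', hg', hgτ, map_zero, smul_zero, Algebra.smul_def,
    eq_comm, mul_eq_zero] at h2
  exact Ideal.algebraMap_residueField_eq_zero.1 (h2.resolve_right fun e => hφ (κ.injective (e.trans (map_zero κ).symm)))

theorem map_different_eq_of_flat [Module.Flat A A'] :
    Ideal.map (algebraMap B B') (QFDual.different B (Disc.Omega.trace A B)) =
      QFDual.different B' (Disc.Omega.trace A' B') := by
  classical
  refine le_antisymm (map_different_le hB) fun b' hb' => ?_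
  obtain ⟨L, hL⟩ := exists_omega_equiv hB
  have : Module.Flat B B' := Module.Flat.isBaseChange A B A' B' hB.symm.out
  let ι := Module.Free.ChooseBasisIndex A B
  let bas := Module.Free.chooseBasis A B
  let g : ι → Disc.Omega A B := fun i => Disc.Omega.mk (bas.coord i)
  have hgen : ∀ φ, φ = ∑ i, algebraMap A B (φ.toLinearMap (bas i)) • g i := fun φ => by
    refine Disc.Omega.ext (bas.ext fun j => ?_)
    have : (∑ i, algebraMap A B (φ.toLinearMap (bas i)) • g i).toLinearMap =
        ∑ i, (algebraMap A B (φ.toLinearMap (bas i)) • g i).toLinearMap :=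
      map_sum (AddMonoidHom.mk' Disc.Omega.toLinearMap Disc.Omega.add_toLinearMap) _ _
    rw [this, LinearMap.sum_apply, Finset.sum_eq_single j]
    · rw [Disc.Omega.smul_toLinearMap_apply, ← Algebra.smul_def, map_smul]
      simp [g]
    · intro i _ hij
      rw [Disc.Omega.smul_toLinearMap_apply, ← Algebra.smul_def, map_smul]
      simp [g, Finsupp.single_apply, Ne.symm hij]
    · simp
  let T : B × (ι → B) →ₗ[B] (ι → Disc.Omega A B) :=
    LinearMap.pi fun i => (LinearMap.toSpanSingleton B _ (g i)).comp (LinearMap.fst B B (ι → B)) -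
      (LinearMap.toSpanSingleton B _ (Disc.Omega.trace A B)).comp ((LinearMap.proj i).comp (LinearMap.snd B B (ι → B)))
  have hT : ∀ x : LinearMap.ker T, x.1.1 ∈ QFDual.different B (Disc.Omega.trace A B) := by
    rintro ⟨⟨b, c⟩, hx⟩
    rw [QFDual.mem_different_iff]
    intro φ
    have hi : ∀ i, c i • Disc.Omega.trace A B = b • g i := fun i => (sub_eq_zero.1 (congrFun hx i)).symm
    refine ⟨∑ i, algebraMap A B (φ.toLinearMap (bas i)) * c i, ?_⟩
    conv_rhs => rw [hgen φ, Finset.smul_sum]
    rw [Finset.sum_smul]
    exact Finset.sum_congr rfl fun i _ => by rw [mul_smul, hi, smul_comm]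
  choose c hc using fun i => (QFDual.mem_different_iff B' _ b').1 hb' (QFDual.bcFin hB (g i))
  let x : B' ⊗[B] (B × (ι → B)) := b' ⊗ₜ[B] (1, 0) + ∑ i, c i ⊗ₜ[B] (0, Pi.single i 1)
  have hx : T.lTensor B' x = 0 := by
    refine (TensorProduct.piRight B B' B' fun _ : ι => Disc.Omega A B).injective (funext fun i => L.injective ?_)
    simp only [x, map_add, map_sum, LinearMap.lTensor_tmul, TensorProduct.piRight_apply,
      TensorProduct.piRightHom_tmul, Pi.add_apply, Finset.sum_apply, map_zero, Pi.zero_apply]
    rw [Finset.sum_eq_single i]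
    · rw [show T (1, 0) i = g i by simp [T], show T ((0 : B), Pi.single i 1) i = -Disc.Omega.trace A B by simp [T],
        TensorProduct.tmul_neg, map_neg,
        show ∀ (w : B') φ, w ⊗ₜ[B] φ = w • ((1 : B') ⊗ₜ[B] (φ : Disc.Omega A B)) from fun w φ => by
          rw [TensorProduct.smul_tmul', smul_eq_mul, mul_one]]
      rw [show c i ⊗ₜ[B] Disc.Omega.trace A B = c i • ((1 : B') ⊗ₜ[B] Disc.Omega.trace A B) by
        rw [TensorProduct.smul_tmul', smul_eq_mul, mul_one]]
      simp only [map_smul, hL, bcFin_trace hB, hc, add_neg_cancel]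
    · intro j _ hj
      rw [show T ((0 : B), Pi.single j 1) i = 0 by simp [T, Ne.symm hj], TensorProduct.tmul_zero, map_zero]
    · simp
  obtain ⟨y, hy⟩ := (Module.Flat.lTensor_exact B' (LinearMap.exact_subtype_ker_map T) x).1 hx
  have key : ∀ y : B' ⊗[B] LinearMap.ker T, TensorProduct.rid B B' ((LinearMap.fst B B (ι → B)).lTensor B'
      ((LinearMap.ker T).subtype.lTensor B' y)) ∈ Ideal.map (algebraMap B B') (QFDual.different B (Disc.Omega.trace A B)) := by
    intro y
    induction y with
    | zero => simp
    | add a b ha hb => simp only [map_add]; exact add_mem ha hb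
    | tmul w k =>
      simp only [LinearMap.lTensor_tmul, TensorProduct.rid_tmul, Submodule.subtype_apply, LinearMap.fst_apply,
        Algebra.smul_def]
      exact Ideal.mul_mem_right _ _ (Ideal.mem_map_of_mem _ (hT k))
  have := key y
  rw [hy] at this
  simpa [x] using this

theorem map_different_eq_of_invertible [Module.Invertible B (Disc.Omega A B)] :
    Ideal.map (algebraMap B B') (QFDual.different B (Disc.Omega.trace A B)) =
      QFDual.different B' (Disc.Omega.trace A' B') := by
  refine le_antisymm (map_different_le hB) fun b' hb' => ?_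
  obtain ⟨L, hL⟩ := exists_omega_equiv hB
  obtain ⟨t, ht⟩ := (Module.Invertible.bijective : Function.Bijective (contractLeft B (Disc.Omega A B))).2 1
  suffices h : ∀ (f : Module.Dual B (Disc.Omega A B)) m,
      b' * algebraMap B B' (f m) ∈ Ideal.map (algebraMap B B') (QFDual.different B (Disc.Omega.trace A B)) by
    have h2 : ∀ t, b' * algebraMap B B' (contractLeft B (Disc.Omega A B) t) ∈
        Ideal.map (algebraMap B B') (QFDual.different B (Disc.Omega.trace A B)) := by
      intro t
      induction t with
      | zero => simp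
      | add a c ha hc => rw [map_add, map_add, mul_add]; exact add_mem ha hc
      | tmul f m => rw [contractLeft_apply]; exact h f m
    simpa [ht] using h2 t
  intro f m
  have hf : f (Disc.Omega.trace A B) ∈ QFDual.different B (Disc.Omega.trace A B) := by
    rw [QFDual.mem_different_iff]
    exact fun φ => ⟨f φ, (invertible_swap f _ φ).symm⟩
  let f' : Disc.Omega A' B' →ₗ[B'] B' := (((Algebra.linearMap B B').comp f).liftBaseChange B').comp L.symm.toLinearMap
  have hf' : ∀ x, f' (QFDual.bcFin hB x) = algebraMap B B' (f x) := fun x => by simp [f', ← hL]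
  obtain ⟨c, hc⟩ := (QFDual.mem_different_iff B' _ b').1 hb' (QFDual.bcFin hB m)
  have h2 := congrArg f' hc
  rw [map_smul, map_smul, ← bcFin_trace hB, hf', hf', smul_eq_mul, smul_eq_mul] at h2
  rw [← h2]
  exact Ideal.mul_mem_left _ _ (Ideal.mem_map_of_mem _ hf)

end Free

end Groth.Agent.QFDLib
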