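import Groth.Prelude.Def_QFDual
import Mathlib.RingTheory.Flat.Basic
import Mathlib.RingTheory.Noetherian.Basic
import Mathlib.RingTheory.IsTensorProduct
import Mathlib.RingTheory.Ideal.Operations

/-! Flat base change of duals and of the relative dualizing module. -/

namespace Groth.Agent.QFDLib

open TensorProduct

section Dual

variable {A : Type*} [CommRing A] (A₁ : Type*) [CommRing A₁] [Algebra A A₁]

/-- `A₁ ⊗ V^* → (A₁ ⊗ V)^*` -/
noncomputable def Phi (V : Type*) [AddCommGroup V] [Module A V] :
    A₁ ⊗[A] Module.Dual A V →ₗ[A₁] Module.Dual A₁ (A₁ ⊗[A] V) :=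
  (Module.Dual.baseChange A₁).liftBaseChange A₁

variable {A₁}

theorem Phi_tmul {V : Type*} [AddCommGroup V] [Module A V] (a : A₁) (f : Module.Dual A V) (v : V) :
    Phi A₁ V (a ⊗ₜ f) (1 ⊗ₜ v) = a * algebraMap A A₁ (f v) := by
  simp [Phi, Algebra.algebraMap_eq_smul_one]

theorem Phi_natural {V F : Type*} [AddCommGroup V] [Module A V] [AddCommGroup F] [Module A F] (π : F →ₗ[A] V)
    (x : A₁ ⊗[A] Module.Dual A V) :
    (Phi A₁ V x).comp (π.baseChange A₁) = Phi A₁ F (π.dualMap.baseChange A₁ x) := by
  induction x with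
  | zero => simp
  | add x y hx hy => simp only [map_add, LinearMap.add_comp, hx, hy]
  | tmul a f =>
    refine TensorProduct.AlgebraTensorModule.ext fun b v => ?_
    simp [Phi]

theorem Phi_bijective_free (V : Type*) [AddCommGroup V] [Module A V] [Module.Free A V] [Module.Finite A V] :
    Function.Bijective (Phi (A := A) A₁ V) := by
  have e : Phi A₁ V = ((TensorProduct.isBaseChange (R := A) (M := V) (S := A₁)).toDualBaseChange).toLinearMap := by
    refine TensorProduct.AlgebraTensorModule.ext fun a f => (TensorProduct.isBaseChange (R := A) (M := V) (S := A₁)).algHom_ext _ _ fun v => ?_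
    exact (Phi_tmul a f v).trans (IsBaseChange.toDualBaseChange_tmul (TensorProduct.isBaseChange (R := A) (M := V) (S := A₁)) a f v).symm
  rw [e]
  exact LinearEquiv.bijective _

/-- Flat base change of the dual of a finite module over a Noetherian ring. -/
theorem Phi_bijective [IsNoetherianRing A] [Module.Flat A A₁] (V : Type*) [AddCommGroup V] [Module A V]
    [Module.Finite A V] : Function.Bijective (Phi (A := A) A₁ V) := by
  obtain ⟨n, π, hπ⟩ := Module.Finite.exists_fin' A V
  have : Module.Finite A ↥(LinearMap.ker π) := Module.Finite.iff_fg.2 (IsNoetherian.noetherian _)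
  obtain ⟨m, σ, hσ⟩ := Module.Finite.exists_fin' A ↥(LinearMap.ker π)
  let ρ : (Fin m → A) →ₗ[A] (Fin n → A) := (LinearMap.ker π).subtype.comp σ
  have hex : Function.Exact π.dualMap ρ.dualMap := by
    intro f
    constructor
    · intro hf
      rw [← LinearMap.coe_range, SetLike.mem_coe, LinearMap.range_dualMap_eq_dualAnnihilator_ker_of_surjective π hπ]
      rw [Submodule.mem_dualAnnihilator]
      intro x hx
      obtain ⟨y, hy⟩ := hσ ⟨x, hx⟩
      have := LinearMap.congr_fun hf y
      simp only [LinearMap.dualMap_apply, ρ, LinearMap.comp_apply, hy, Submodule.subtype_apply] at this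
      exact this
    · rintro ⟨g, rfl⟩
      refine LinearMap.ext fun y => ?_
      simp only [LinearMap.dualMap_apply, ρ, LinearMap.comp_apply, Submodule.subtype_apply, LinearMap.zero_apply]
      rw [LinearMap.mem_ker.1 (σ y).2, map_zero]
  have hex' : Function.Exact (π.dualMap.baseChange A₁) (ρ.dualMap.baseChange A₁) :=
    Module.Flat.lTensor_exact A₁ hex
  have hinj : Function.Injective (π.dualMap.baseChange A₁) :=
    Module.Flat.lTensor_preserves_injective_linearMap π.dualMap (LinearMap.dualMap_injective_of_surjective hπ)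
  have hsurj : Function.Surjective (π.baseChange A₁) := LinearMap.lTensor_surjective _ hπ
  have hF := Phi_bijective_free (A := A) (A₁ := A₁) (Fin n → A)
  constructor
  · intro x y hxy
    refine hinj (hF.1 ?_)
    rw [← Phi_natural, ← Phi_natural, hxy]
  · intro g
    obtain ⟨y, hy⟩ := hF.2 (g.comp (π.baseChange A₁))
    have h0 : ρ.dualMap.baseChange A₁ y = 0 := by
      refine (Phi_bijective_free (A := A) (A₁ := A₁) (Fin m → A)).1 ?_
      rw [← Phi_natural, hy, map_zero, LinearMap.comp_assoc, ← LinearMap.baseChange_comp,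
        show π ∘ₗ ρ = 0 from LinearMap.ext fun z => LinearMap.mem_ker.1 (σ z).2, LinearMap.baseChange_zero,
        LinearMap.comp_zero]
    obtain ⟨x, rfl⟩ := (hex' y).1 h0
    refine ⟨x, LinearMap.ext fun z => ?_⟩
    obtain ⟨w, rfl⟩ := hsurj z
    rw [← LinearMap.comp_apply, Phi_natural, hy]
    rfl

end Dual

section Omega

variable (A B : Type*) [CommRing A] [CommRing B] [Algebra A B]

/-- `ω` as a module over the base. -/
@[reducible] noncomputable def omegaModule : Module A (Disc.Omega A B) :=
  Module.compHom _ (algebraMap A B)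

theorem omegaModule_smul (a : A) (φ : Disc.Omega A B) :
    (letI := omegaModule A B; a • φ) = algebraMap A B a • φ := rfl

end Omega

universe u

variable (A B' A₁ B'₁ : Type u) [CommRing A] [CommRing B'] [CommRing A₁] [CommRing B'₁]
  [Algebra A B'] [Algebra A A₁] [Algebra B' B'₁]
  [Algebra A₁ B'₁] [Algebra A B'₁] [IsScalarTower A A₁ B'₁] [IsScalarTower A B' B'₁]

/-- The source of base change at `B'₁` through duals over `A`. -/
theorem exists_src_equiv (h : Algebra.IsPushout A A₁ B' B'₁) :
    ∃ κ : QFDual.omega A B' B'₁ ≃+ A₁ ⊗[A] Module.Dual A B',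
      (∀ x, (QFDual.omegaBC (B₁ := B'₁) h x) = (1 : B'₁) ⊗ₜ[B'₁]
        Disc.Omega.mk (Module.Dual.congr h.out.equiv (Phi A₁ B' (κ x)))) ∧
      ∀ (s : B') x, κ (algebraMap B' B'₁ s • x) = (LinearMap.mulLeft A s).dualMap.baseChange A₁ (κ x) := by
  let := omegaModule A B'
  have : IsScalarTower A B' (Disc.Omega A B') := IsScalarTower.of_algebraMap_smul fun _ _ => rfl
  let e1 : A₁ ⊗[A] Disc.Omega A B' ≃ₗ[A] A₁ ⊗[A] Module.Dual A B' :=
    LinearEquiv.lTensor A₁
      { toFun := Disc.Omega.toLinearMap
        map_add' := fun _ _ => rfl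
        map_smul' := fun a φ => by
          refine LinearMap.ext fun x => ?_
          show φ.toLinearMap (algebraMap A B' a * x) = a • φ.toLinearMap x
          rw [← Algebra.smul_def, map_smul]
        invFun := Disc.Omega.mk
        left_inv := fun _ => rfl
        right_inv := fun _ => rfl }
  let c := Algebra.IsPushout.cancelBaseChange A A₁ B' B'₁ (Disc.Omega A B')
  refine ⟨c.toAddEquiv.trans e1.toAddEquiv, fun x => ?_, fun s x => ?_⟩
  · show _ = (1 : B'₁) ⊗ₜ[B'₁] Disc.Omega.mk (Module.Dual.congr h.out.equiv (Phi A₁ B' (e1 (c x))))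
    obtain ⟨y, rfl⟩ := c.symm.surjective x
    rw [c.apply_symm_apply]
    induction y with
    | zero =>
      simp only [map_zero]
      exact (TensorProduct.tmul_zero _ _).symm
    | add y y' hy hy' =>
      simp only [map_add, hy, hy', ← TensorProduct.tmul_add]
      rfl
    | tmul a φ =>
      rw [Algebra.IsPushout.cancelBaseChange_symm_tmul, QFDual.omegaBC_tmul]
      rw [show algebraMap A₁ B'₁ a = algebraMap A₁ B'₁ a • (1 : B'₁) by rw [smul_eq_mul, mul_one], TensorProduct.smul_tmul]
      congr 1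
      refine Disc.Omega.ext ?_
      refine h.out.algHom_ext _ _ fun v => ?_
      show (QFDual.bcFin h φ).toLinearMap (algebraMap A₁ B'₁ a * algebraMap B' B'₁ v) = _
      rw [← Algebra.smul_def, map_smul, QFDual.bcFin_apply_algebraMap]
      show _ = Phi A₁ B' (a ⊗ₜ φ.toLinearMap) (h.out.equiv.symm ((IsScalarTower.toAlgHom A B' B'₁).toLinearMap v))
      rw [IsBaseChange.equiv_symm_apply, Phi_tmul]
      rfl
  · obtain ⟨y, rfl⟩ := c.symm.surjective x
    show e1 (c _) = (LinearMap.mulLeft A s).dualMap.baseChange A₁ (e1 (c (c.symm y)))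
    rw [c.apply_symm_apply]
    induction y with
    | zero => simp
    | add y y' hy hy' => simp only [map_add, smul_add, hy, hy']
    | tmul a φ =>
      rw [Algebra.IsPushout.cancelBaseChange_symm_tmul, algebraMap_smul, ← TensorProduct.tmul_smul,
        ← Algebra.IsPushout.cancelBaseChange_symm_tmul (R := A), c.apply_symm_apply]
      rfl

theorem bcFin_lift_bijective [IsNoetherianRing A] [Module.Finite A B'] [Module.Flat A A₁]
    (h : Algebra.IsPushout A A₁ B' B'₁) : Function.Bijective (QFDual.omegaBC (B₁ := B'₁) h) := by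
  obtain ⟨κ, hκ, -⟩ := exists_src_equiv A B' A₁ B'₁ h
  have hP := Phi_bijective (A := A) (A₁ := A₁) B'
  constructor
  · intro x y hxy
    rw [hκ, hκ] at hxy
    have := congrArg Disc.Omega.toLinearMap ((TensorProduct.lid B'₁ _).symm.injective hxy)
    exact κ.injective (hP.1 ((Module.Dual.congr h.out.equiv).injective this))
  · intro g
    obtain ⟨g', rfl⟩ := (TensorProduct.lid B'₁ _).symm.surjective g
    obtain ⟨y, hy⟩ := hP.2 ((Module.Dual.congr h.out.equiv).symm g'.toLinearMap)
    refine ⟨κ.symm y, ?_⟩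
    rw [hκ, κ.apply_symm_apply, hy, LinearEquiv.apply_symm_apply, TensorProduct.lid_symm_apply]

variable {A B' A₁ B'₁} in
/-- An element acting through a free module kills kernel and cokernel of base change. -/
theorem kills_of_factor {k : ℕ} {s : B'} (α : B' →ₗ[A] (Fin k → A)) (β : (Fin k → A) →ₗ[A] B')
    (hs : β.comp α = LinearMap.mulLeft A s) (h : Algebra.IsPushout A A₁ B' B'₁) :
    (∀ x, QFDual.omegaBC (B₁ := B'₁) h x = 0 → algebraMap B' B'₁ s • x = 0) ∧
      ∀ g, algebraMap B' B'₁ s • g ∈ LinearMap.range (QFDual.omegaBC (B₁ := B'₁) h) := by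
  obtain ⟨κ, hκ, hκs⟩ := exists_src_equiv A B' A₁ B'₁ h
  have hF := Phi_bijective_free (A := A) (A₁ := A₁) (Fin k → A)
  have hdual : ∀ y, (LinearMap.mulLeft A s).dualMap.baseChange A₁ y =
      α.dualMap.baseChange A₁ (β.dualMap.baseChange A₁ y) := fun y => by
    rw [← hs, ← LinearMap.dualMap_comp_dualMap, LinearMap.baseChange_comp, LinearMap.comp_apply]
  constructor
  · intro x hx
    rw [hκ] at hx
    have h0 : Phi A₁ B' (κ x) = 0 := by
      have := congrArg Disc.Omega.toLinearMap ((TensorProduct.lid B'₁ _).symm.injective (hx.trans (map_zero _).symm))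
      exact (Module.Dual.congr h.out.equiv).map_eq_zero_iff.1 this
    refine κ.injective ?_
    rw [map_zero, hκs, hdual]
    rw [hF.1 (a₁ := β.dualMap.baseChange A₁ (κ x)) (a₂ := 0) (by rw [← Phi_natural, h0, map_zero, LinearMap.zero_comp]), map_zero]
  · intro g
    obtain ⟨g', rfl⟩ := (TensorProduct.lid B'₁ _).symm.surjective g
    obtain ⟨y, hy⟩ := hF.2 (((Module.Dual.congr h.out.equiv).symm g'.toLinearMap).comp (β.baseChange A₁))
    refine ⟨κ.symm (α.dualMap.baseChange A₁ y), ?_⟩
    rw [hκ, κ.apply_symm_apply, ← map_smul, TensorProduct.lid_symm_apply]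
    congr 1
    refine Disc.Omega.ext ?_
    refine h.out.algHom_ext _ _ fun v => ?_
    rw [← Phi_natural, hy, Disc.Omega.smul_toLinearMap_apply]
    show g'.toLinearMap (h.out.equiv ((β.baseChange A₁) ((α.baseChange A₁) (h.out.equiv.symm ((IsScalarTower.toAlgHom A B' B'₁).toLinearMap v))))) = _
    rw [IsBaseChange.equiv_symm_apply, LinearMap.baseChange_tmul, LinearMap.baseChange_tmul, IsBaseChange.equiv_tmul, one_smul,
      show β (α v) = s * v from LinearMap.congr_fun hs v]
    simp

variable {A B' A₁ B'₁} in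
/-- Partial inverses glue after tensoring. -/
theorem lTensor_bijective_of_kills {R : Type*} [CommRing R] {M N : Type*} [AddCommGroup M] [Module R M]
    [AddCommGroup N] [Module R N] (L : M →ₗ[R] N) (C : Type*) [CommRing C] [Algebra R C] (S : Set R)
    (hspan : Ideal.span (algebraMap R C '' S) = ⊤) (hk : ∀ s ∈ S, ∀ x, L x = 0 → s • x = 0)
    (hc : ∀ s ∈ S, ∀ g, s • g ∈ LinearMap.range L) : Function.Bijective (L.lTensor C) := by
  have hspan2 : Ideal.span ((fun c => c ^ 2) '' (algebraMap R C '' S)) = ⊤ := Ideal.span_pow_eq_top _ hspan 2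
  have hγ : ∀ s ∈ S, ∃ γ : N →ₗ[R] M, γ.comp L = s ^ 2 • LinearMap.id ∧ L.comp γ = s ^ 2 • LinearMap.id := by
    intro s hs
    choose f hf using hc s hs
    have hu : ∀ g x, L x = s • g → s • f g = s • x := fun g x hx => by
      rw [← sub_eq_zero, ← smul_sub]
      exact hk s hs _ (by rw [map_sub, hf, hx, sub_self])
    refine ⟨{ toFun := fun g => s • f g, map_add' := fun a b => ?_, map_smul' := fun r a => ?_ }, ?_, ?_⟩
    · rw [hu (a + b) (f a + f b) (by rw [map_add, hf, hf, smul_add]), smul_add]
    · rw [RingHom.id_apply, hu (r • a) (r • f a) (by rw [map_smul, hf, smul_comm]), smul_comm]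
    · ext x
      simp only [LinearMap.comp_apply, LinearMap.coe_mk, AddHom.coe_mk, LinearMap.smul_apply, LinearMap.id_apply]
      rw [hu (L x) (s • x) (map_smul L s x), smul_smul, sq]
    · ext g
      simp only [LinearMap.comp_apply, LinearMap.coe_mk, AddHom.coe_mk, LinearMap.smul_apply, LinearMap.id_apply]
      rw [map_smul, hf, smul_smul, sq]
  constructor
  · rw [injective_iff_map_eq_zero]
    intro y hy
    have h1 : ∀ c ∈ Ideal.span ((fun c => c ^ 2) '' (algebraMap R C '' S)), c • y = 0 := by
      intro c hc'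
      induction hc' using Submodule.span_induction with
      | zero => rw [zero_smul]
      | add a b _ _ ha hb => rw [add_smul, ha, hb, add_zero]
      | smul a b _ hb => rw [smul_eq_mul, mul_smul, hb, smul_zero]
      | mem c hc' =>
        obtain ⟨-, ⟨s, hs, rfl⟩, rfl⟩ := hc'
        obtain ⟨γ, h1, -⟩ := hγ s hs
        show algebraMap R C s ^ 2 • y = 0
        rw [← map_pow, algebraMap_smul]
        have := congrArg (fun F => LinearMap.lTensor C F y) h1
        simp only [LinearMap.lTensor_comp, LinearMap.comp_apply, hy, map_zero, LinearMap.lTensor_smul,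
          LinearMap.lTensor_id, LinearMap.smul_apply, LinearMap.id_apply] at this
        exact this.symm
    simpa using h1 1 (hspan2 ▸ Submodule.mem_top)
  · intro g
    have h1 : ∀ c ∈ Ideal.span ((fun c => c ^ 2) '' (algebraMap R C '' S)), c • g ∈ LinearMap.range (L.baseChange C) := by
      intro c hc'
      induction hc' using Submodule.span_induction with
      | zero => rw [zero_smul]; exact zero_mem _
      | add a b _ _ ha hb => rw [add_smul]; exact add_mem ha hb
      | smul a b _ hb => rw [smul_eq_mul, mul_smul]; exact Submodule.smul_mem _ _ hb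
      | mem c hc' =>
        obtain ⟨-, ⟨s, hs, rfl⟩, rfl⟩ := hc'
        obtain ⟨γ, -, h2⟩ := hγ s hs
        show algebraMap R C s ^ 2 • g ∈ _
        rw [← map_pow, algebraMap_smul]
        refine ⟨γ.lTensor C g, ?_⟩
        rw [LinearMap.baseChange_eq_ltensor, ← LinearMap.comp_apply, ← LinearMap.lTensor_comp, h2,
          LinearMap.lTensor_smul, LinearMap.lTensor_id]
        rfl
    obtain ⟨y, hy⟩ := h1 1 (hspan2 ▸ Submodule.mem_top)
    exact ⟨y, by rw [one_smul, LinearMap.baseChange_eq_ltensor] at hy; exact hy⟩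

variable {A B' A₁ B'₁} in
omit [Algebra A A₁] [Algebra A₁ B'₁] in
/-- `ω` base change at `B₁` is the scalar extension of the one at `B'₁`. -/
theorem omegaBC_bijective_of_kills [Algebra A A₁] [Algebra A₁ B'₁] [IsScalarTower A A₁ B'₁]
    (h : Algebra.IsPushout A A₁ B' B'₁) (B₁ : Type u) [CommRing B₁] [Algebra B'₁ B₁] [Algebra B' B₁]
    [IsScalarTower B' B'₁ B₁] (S : Set B') (hspan : Ideal.span (algebraMap B' B₁ '' S) = ⊤)
    (hS : ∀ s ∈ S, ∃ k, ∃ (α : B' →ₗ[A] (Fin k → A)) (β : (Fin k → A) →ₗ[A] B'), β.comp α = LinearMap.mulLeft A s) :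
    Function.Bijective (QFDual.omegaBC (B₁ := B₁) h) := by
  let L : QFDual.omega A B' B'₁ →ₗ[B'₁] Disc.Omega A₁ B'₁ :=
    (TensorProduct.lid B'₁ _).toLinearMap.comp (QFDual.omegaBC (B₁ := B'₁) h)
  have hb : Function.Bijective (L.lTensor B₁) := by
    refine lTensor_bijective_of_kills L B₁ (algebraMap B' B'₁ '' S) ?_ ?_ ?_
    · rw [← hspan, Set.image_image]
      simp only [← IsScalarTower.algebraMap_apply]
    · rintro _ ⟨s, hs, rfl⟩ x hx
      obtain ⟨k, α, β, hαβ⟩ := hS s hs
      exact (kills_of_factor α β hαβ h).1 x ((TensorProduct.lid B'₁ _).map_eq_zero_iff.1 hx)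
    · rintro _ ⟨s, hs, rfl⟩ g
      obtain ⟨k, α, β, hαβ⟩ := hS s hs
      obtain ⟨x, hx⟩ := (kills_of_factor α β hαβ h).2 ((TensorProduct.lid B'₁ _).symm g)
      refine ⟨x, ?_⟩
      show TensorProduct.lid B'₁ _ (QFDual.omegaBC h x) = _
      rw [hx, map_smul, LinearEquiv.apply_symm_apply]
  let c := TensorProduct.AlgebraTensorModule.cancelBaseChange B' B'₁ B₁ B₁ (Disc.Omega A B')
  have e : QFDual.omegaBC (B₁ := B₁) h = (L.baseChange B₁).comp c.symm.toLinearMap :=
    TensorProduct.AlgebraTensorModule.ext fun b φ => by simp [c, L]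
  rw [e]
  exact hb.comp c.symm.bijective

variable {A B' A₁ B'₁} in
/-- Bijectivity for `B'₁` implies it for every `B'₁`-algebra. -/
theorem omegaBC_bijective_of_self (h : Algebra.IsPushout A A₁ B' B'₁) (hb : Function.Bijective (QFDual.omegaBC (B₁ := B'₁) h))
    (B₁ : Type u) [CommRing B₁] [Algebra B'₁ B₁] [Algebra B' B₁] [IsScalarTower B' B'₁ B₁] :
    Function.Bijective (QFDual.omegaBC (B₁ := B₁) h) := by
  let c := TensorProduct.AlgebraTensorModule.cancelBaseChange B' B'₁ B₁ B₁ (Disc.Omega A B')
  let L : QFDual.omega A B' B'₁ ≃ₗ[B'₁] Disc.Omega A₁ B'₁ :=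
    (LinearEquiv.ofBijective _ hb).trans (TensorProduct.lid B'₁ _)
  let e : QFDual.omega A B' B₁ ≃ₗ[B₁] QFDual.omega A₁ B'₁ B₁ :=
    c.symm.trans (TensorProduct.AlgebraTensorModule.congr (LinearEquiv.refl B₁ B₁) L)
  rw [show QFDual.omegaBC (B₁ := B₁) h = e.toLinearMap from
    TensorProduct.AlgebraTensorModule.ext fun b φ => by simp [e, c, L]]
  exact e.bijective

end Groth.Agent.QFDLib
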