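import Groth.Agent.QFDLib.DualBC
import Mathlib.RingTheory.Flat.EquationalCriterion
import Mathlib.RingTheory.Flat.Stability
import Mathlib.RingTheory.Flat.Localization
import Mathlib.AlgebraicGeometry.AffineScheme
import Mathlib.Tactic.LinearCombination

/-! Elements acting through free modules, for flat quasi-finite factorisations. -/

namespace Groth.Agent.QFDLib

universe u

open CategoryTheory AlgebraicGeometry

theorem exists_factor_of_flat_localization {A B' : Type u} [CommRing A] [CommRing B'] [Algebra A B']
    [IsNoetherianRing A] [Module.Finite A B'] (T : Submonoid B') (L : Type u) [CommRing L] [Algebra B' L]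
    [Algebra A L] [IsScalarTower A B' L] [IsLocalization T L] [Module.Flat A L] :
    ∃ s ∈ T, ∃ k, ∃ (α : B' →ₗ[A] (Fin k → A)) (β : (Fin k → A) →ₗ[A] B'), β.comp α = LinearMap.mulLeft A s := by
  classical
  have := Module.finitePresentation_of_finite A B'
  obtain ⟨k, a, y, hay⟩ := Module.Flat.exists_factorization_of_finitePresentation
    ((IsScalarTower.toAlgHom A B' L).toLinearMap)
  obtain ⟨t, ht⟩ := IsLocalization.exist_integer_multiples T Finset.univ fun i : Fin k => y (Finsupp.single i 1)
  choose b hb using fun i => ht i (Finset.mem_univ i)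
  let e : (Fin k →₀ A) ≃ₗ[A] (Fin k → A) := Finsupp.linearEquivFunOnFinite A A (Fin k)
  let β₀ : (Fin k → A) →ₗ[A] B' := Fintype.linearCombination A b
  have h1 : ∀ v : Fin k →₀ A, algebraMap B' L (β₀ (e v)) = algebraMap B' L t * y v := by
    intro v
    induction v using Finsupp.induction_linear with
    | zero => simp
    | add v w hv hw => simp only [map_add, mul_add, hv, hw]
    | single i c =>
      simp only [e, β₀, Finsupp.linearEquivFunOnFinite_single, Fintype.linearCombination_apply_single]
      rw [Algebra.smul_def c (b i), map_mul, ← IsScalarTower.algebraMap_apply, hb i, ← Finsupp.smul_single_one i c,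
        map_smul y, Algebra.smul_def, Algebra.smul_def c, mul_left_comm]
  obtain ⟨G, hG⟩ := Module.Finite.fg_top (R := A) (M := B')
  have h2 : ∀ x : B', ∃ s : T, (s : B') * β₀ (e (a x)) = s * ((t : B') * x) := fun x => by
    refine (IsLocalization.eq_iff_exists T L).1 ?_
    rw [h1, map_mul]
    exact congrArg _ (LinearMap.congr_fun hay x).symm
  choose s hs using h2
  let S := ∏ x ∈ G, s x
  refine ⟨S * t, (S * t).2, k, e.toLinearMap.comp a, (LinearMap.mulLeft A (S : B')).comp β₀, ?_⟩
  refine LinearMap.ext_on hG fun x hx => ?_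
  obtain ⟨c, hc⟩ := Finset.dvd_prod_of_mem s hx
  simp only [LinearMap.comp_apply, LinearMap.mulLeft_apply, LinearEquiv.coe_coe, Submonoid.coe_mul, S]
  rw [hc, Submonoid.coe_mul]
  linear_combination (c : B') * hs x

theorem span_factor_eq_top {A B' B : Type u} [CommRing A] [CommRing B'] [CommRing B] [Algebra A B'] [Algebra B' B]
    [Algebra A B] [IsScalarTower A B' B] [IsNoetherianRing A] [Module.Flat A B] (hf : QFDual.IsQFFactor A B' B) :
    Ideal.span (algebraMap B' B '' {s | ∃ k, ∃ (α : B' →ₗ[A] (Fin k → A)) (β : (Fin k → A) →ₗ[A] B'),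
      β.comp α = LinearMap.mulLeft A s}) = ⊤ := by
  have := hf.finite
  by_contra hne
  obtain ⟨q, hq, hle⟩ := Ideal.exists_le_maximal _ hne
  let φ := CommRingCat.ofHom (algebraMap B' B)
  have : IsOpenImmersion (Spec.map φ) := hf.isOpenImmersion
  let x : Spec (CommRingCat.of B) := (⟨q, hq.isPrime⟩ : PrimeSpectrum B)
  have hx : IsIso ((Spec.map φ).stalkMap x) := inferInstance
  let P : PrimeSpectrum B := ⟨q, hq.isPrime⟩
  have hiso : IsIso (CommRingCat.ofHom <| Localization.localRingHom (PrimeSpectrum.comap φ.hom P).asIdeal P.asIdeal φ.hom rfl) :=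
    ((MorphismProperty.isomorphisms CommRingCat).arrow_mk_iso_iff (Scheme.arrowStalkMapSpecIso φ P)).1 hx
  have hb : Function.Bijective (Localization.localRingHom (PrimeSpectrum.comap φ.hom P).asIdeal P.asIdeal φ.hom rfl) :=
    ConcreteCategory.bijective_of_isIso (CommRingCat.ofHom
      (Localization.localRingHom (PrimeSpectrum.comap φ.hom P).asIdeal P.asIdeal φ.hom rfl))
  let q' : Ideal B' := q.comap (algebraMap B' B)
  have : q'.IsPrime := hq.isPrime.comap _
  have hfl : Module.Flat A (Localization.AtPrime q) := Module.Flat.trans A B (Localization.AtPrime q)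
  let F : Localization.AtPrime q' →ₗ[A] Localization.AtPrime q :=
    { toFun := Localization.localRingHom q' q (algebraMap B' B) rfl
      map_add' := map_add _
      map_smul' := fun c x => by
        rw [RingHom.id_apply, Algebra.smul_def, Algebra.smul_def, map_mul,
          IsScalarTower.algebraMap_apply A B' (Localization.AtPrime q'), Localization.localRingHom_to_map,
          ← IsScalarTower.algebraMap_apply A B' B, ← IsScalarTower.algebraMap_apply A B] }
  have := Module.Flat.of_linearEquiv (LinearEquiv.ofBijective F hb)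
  obtain ⟨s, hs, hfac⟩ := exists_factor_of_flat_localization (A := A) q'.primeCompl (Localization.AtPrime q')
  exact hs (hle (Ideal.subset_span ⟨s, hfac, rfl⟩))

end Groth.Agent.QFDLib
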