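import Groth.Agent.NoetherDiff.GorFibre
import Groth.Agent.Gor.Ring
import Groth.Agent.S1827
import Groth.Agent.Synt44.CM
import Groth.Prelude.Def_QFDual

/-! The dual of a Gorenstein factor of a finite algebra over a field. -/

universe u

open TensorProduct CategoryTheory AlgebraicGeometry

namespace Groth.Agent.QFDLib

/-- An open immersion into the spectrum of an Artinian ring is surjective on rings. -/
theorem surjective_of_openImmersion {C D : Type u} [CommRing C] [CommRing D] [IsArtinianRing C] (φ : C →+* D)
    (h : IsOpenImmersion (Spec.map (CommRingCat.ofHom φ))) : Function.Surjective φ := by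
  haveI : DiscreteTopology (Spec (CommRingCat.of C)) := inferInstanceAs (DiscreteTopology (PrimeSpectrum C))
  haveI : IsClosedImmersion (Spec.map (CommRingCat.ofHom φ)) :=
    IsClosedImmersion.of_isPreimmersion _ (isClosed_discrete _)
  have h2 := (IsClosedImmersion.isAffine_surjective_of_isAffine (Spec.map (CommRingCat.ofHom φ))).2
  have e : CommRingCat.ofHom φ = (Scheme.ΓSpecIso (CommRingCat.of C)).inv ≫
      (Spec.map (CommRingCat.ofHom φ)).appTop ≫ (Scheme.ΓSpecIso (CommRingCat.of D)).hom := by
    rw [Scheme.ΓSpecIso_naturality, Iso.inv_hom_id_assoc]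
  have : Function.Surjective (CommRingCat.ofHom φ) := by
    rw [e]
    exact ((Scheme.ΓSpecIso (CommRingCat.of D)).commRingCatIsoToRingEquiv.surjective.comp h2).comp
      (Scheme.ΓSpecIso (CommRingCat.of C)).commRingCatIsoToRingEquiv.symm.surjective
  exact this

/-- The dualizing module of a Gorenstein factor is free of rank one. -/
theorem invertible_omega_factor {k C D : Type u} [Field k] [CommRing C] [CommRing D] [Algebra k C]
    [Algebra C D] [Algebra k D] [IsScalarTower k C D] [Module.Finite k C]
    (h : IsOpenImmersion (Spec.map (CommRingCat.ofHom (algebraMap C D))))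
    (hD : LocCoh.IsGorensteinRing D) : Module.Invertible D (QFDual.omega k C D) := by
  have : IsArtinianRing C := IsArtinianRing.of_finite k C
  have hs := surjective_of_openImmersion (algebraMap C D) h
  haveI : Module.Finite k D :=
    Module.Finite.of_surjective (IsScalarTower.toAlgHom k C D).toLinearMap hs
  haveI hflat : Module.Flat C D := by
    have := h
    exact RingHom.flat_algebraMap_iff.mp
      ((HasRingHomProperty.Spec_iff (P := @AlgebraicGeometry.Flat) (φ := CommRingCat.ofHom (algebraMap C D))).mp inferInstance)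
  obtain ⟨e, hee, heI⟩ : ∃ e : C, e * e = e ∧ RingHom.ker (algebraMap C D) = Ideal.span {e} := by
    set I := RingHom.ker (algebraMap C D) with hI
    have hIfg : I.FG := IsNoetherian.noetherian I
    have hid : IsIdempotentElem I := by
      refine le_antisymm Ideal.mul_le_left fun x hx => ?_
      have hinj : Function.Injective (I.subtype.lTensor D) :=
        Module.Flat.lTensor_preserves_injective_linearMap _ I.injective_subtype
      have h0 : (1 : D) ⊗ₜ[C] (⟨x, hx⟩ : I) = 0 := by
        apply hinj
        rw [map_zero, LinearMap.lTensor_tmul]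
        change (1 : D) ⊗ₜ[C] x = 0
        rw [show x = x • (1 : C) by simp, ← TensorProduct.smul_tmul, Algebra.smul_def,
          RingHom.mem_ker.mp hx, zero_mul, TensorProduct.zero_tmul]
      have hs' : Function.Surjective (Algebra.linearMap C D) := hs
      let q : (C ⧸ I) ≃ₗ[C] D := (Submodule.quotEquivOfEq I (LinearMap.ker (Algebra.linearMap C D)) rfl).trans
        ((Algebra.linearMap C D).quotKerEquivOfSurjective hs')
      let ψ : D ⊗[C] I →ₗ[C] (C ⧸ I) ⊗[C] I := LinearMap.rTensor I q.symm.toLinearMap
      have h1 := congrArg ψ h0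
      rw [map_zero] at h1
      have h2 : ψ ((1 : D) ⊗ₜ[C] (⟨x, hx⟩ : I)) = (1 : C ⧸ I) ⊗ₜ[C] (⟨x, hx⟩ : I) := by
        change q.symm 1 ⊗ₜ[C] (⟨x, hx⟩ : I) = _
        congr 1
        rw [LinearEquiv.symm_apply_eq]
        exact (map_one (algebraMap C D)).symm
      rw [h2] at h1
      have h3 := congrArg (TensorProduct.quotTensorEquivQuotSMul I I) h1
      rw [map_zero, show (1 : C ⧸ I) = Ideal.Quotient.mk I 1 from rfl,
        TensorProduct.quotTensorEquivQuotSMul_mk_tmul, Submodule.Quotient.mk_eq_zero, one_smul] at h3
      have h4 := Submodule.mem_map_of_mem (f := I.subtype) h3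
      rw [Submodule.map_smul'', Submodule.map_top, Submodule.range_subtype] at h4
      exact h4
    obtain ⟨e, he, heI⟩ := (Ideal.isIdempotentElem_iff_of_fg I hIfg).mp hid
    exact ⟨e, he, heI⟩
  have he0 : algebraMap C D e = 0 := by
    have : e ∈ RingHom.ker (algebraMap C D) := heI ▸ Ideal.mem_span_singleton_self e
    exact this
  have hker : ∀ c : C, algebraMap C D c = 0 → c * (1 - e) = 0 := fun c hc => by
    obtain ⟨a, rfl⟩ := Ideal.mem_span_singleton'.mp (heI ▸ (RingHom.mem_ker.mpr hc) : c ∈ Ideal.span {e})
    rw [mul_sub, mul_one, mul_assoc, hee, sub_self]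
  choose σ hσ using hs
  let π : C →ₗ[k] D := (IsScalarTower.toAlgHom k C D).toLinearMap
  have hπ : ∀ c, π c = algebraMap C D c := fun c => rfl
  let s : D →ₗ[k] C :=
    { toFun := fun d => σ d * (1 - e)
      map_add' := fun a b => by
        rw [← sub_eq_zero, ← add_mul, ← sub_mul]
        exact hker _ (by rw [map_sub, map_add, hσ, hσ, hσ, sub_self])
      map_smul' := fun r a => by
        rw [RingHom.id_apply, ← sub_eq_zero, ← smul_mul_assoc, ← sub_mul]
        exact hker _ (by rw [map_sub, hσ, Algebra.smul_def r (σ a), map_mul, hσ, Algebra.smul_def r a,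
          ← IsScalarTower.algebraMap_apply, sub_self]) }
  have hπs : ∀ d, algebraMap C D (s d) = d := fun d => by
    show algebraMap C D (σ d * (1 - e)) = d
    rw [map_mul, hσ, map_sub, map_one, he0, sub_zero, mul_one]
  have hsm : ∀ c d, c * s d = s (algebraMap C D c * d) := fun c d => by
    show c * (σ d * (1 - e)) = σ (algebraMap C D c * d) * (1 - e)
    rw [← mul_assoc, ← sub_eq_zero, ← sub_mul]
    exact hker _ (by rw [map_sub, map_mul, hσ, hσ, sub_self])
  obtain ⟨g, hg⟩ := (NoetherDiff.gorenstein_iff_exists_generator (k := k) (C := D)).mp hD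
  obtain ⟨-, hgs⟩ := (NoetherDiff.bijective_smul_iff g).mpr hg
  let G : Disc.Omega k C := ⟨g.toLinearMap ∘ₗ π⟩
  letI : Module C (Disc.Omega k D) := Module.compHom _ (algebraMap C D)
  haveI : IsScalarTower C D (Disc.Omega k D) := .of_algebraMap_smul fun _ _ => rfl
  let Λ : Disc.Omega k C →ₗ[C] Disc.Omega k D :=
    { toFun := fun φ => ⟨φ.toLinearMap ∘ₗ s⟩
      map_add' := fun a b => Disc.Omega.ext (LinearMap.ext fun y => rfl)
      map_smul' := fun c φ => Disc.Omega.ext (LinearMap.ext fun y => by
        rw [RingHom.id_apply, ← algebraMap_smul D c (⟨φ.toLinearMap ∘ₗ s⟩ : Disc.Omega k D),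
          Disc.Omega.smul_toLinearMap_apply]
        change (c • φ).toLinearMap (s y) = φ.toLinearMap (s (algebraMap C D c * y))
        rw [Disc.Omega.smul_toLinearMap_apply, hsm]) }
  let Λ' : QFDual.omega k C D →ₗ[D] Disc.Omega k D := LinearMap.liftBaseChange D Λ
  let Γ : D →ₗ[D] QFDual.omega k C D := LinearMap.toSpanSingleton D _ (1 ⊗ₜ G)
  have hΛG : ∀ b, Λ' (Γ b) = b • g := fun b => by
    simp only [Γ, Λ', LinearMap.toSpanSingleton_apply, map_smul, LinearMap.liftBaseChange_one_tmul]
    congr 1
    refine Disc.Omega.ext (LinearMap.ext fun y => ?_)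
    change g.toLinearMap (π (s y)) = g.toLinearMap y
    rw [hπ, hπs]
  have hΓ : Function.Bijective Γ := by
    constructor
    · rw [injective_iff_map_eq_zero]
      intro b hb
      exact hg b (by rw [← hΛG, hb, map_zero])
    · rw [← LinearMap.range_eq_top, eq_top_iff]
      intro z htop; clear htop
      induction z using TensorProduct.induction_on with
      | zero => exact zero_mem _
      | add a b ha hb => exact add_mem ha hb
      | tmul b φ =>
        obtain ⟨a, ha⟩ := hgs (Λ φ)
        refine ⟨b * a, ?_⟩
        have hφ : (1 - e) • φ = σ a • ((1 - e) • G) := by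
          refine Disc.Omega.ext (LinearMap.ext fun y => ?_)
          rw [Disc.Omega.smul_toLinearMap_apply, Disc.Omega.smul_toLinearMap_apply,
            Disc.Omega.smul_toLinearMap_apply]
          have h1 := congrArg (fun w : Disc.Omega k D => w.toLinearMap (algebraMap C D y)) ha
          simp only [Disc.Omega.smul_toLinearMap_apply] at h1
          change φ.toLinearMap ((1 - e) * y) = g.toLinearMap (π ((1 - e) * (σ a * y)))
          rw [hπ, map_mul (algebraMap C D), map_mul (algebraMap C D), map_sub (algebraMap C D),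
            map_one (algebraMap C D), he0, sub_zero, one_mul, hσ]
          refine Eq.trans ?_ h1.symm
          change φ.toLinearMap ((1 - e) * y) = φ.toLinearMap (σ (algebraMap C D y) * (1 - e))
          congr 1
          rw [mul_comm (1 - e) y, ← sub_eq_zero, ← sub_mul]
          exact hker _ (by rw [map_sub, hσ, sub_self])
        have h1e : algebraMap C D (1 - e) = 1 := by rw [map_sub, map_one, he0, sub_zero]
        have key : ∀ ψ : Disc.Omega k C, (b ⊗ₜ[C] ψ : QFDual.omega k C D) = b ⊗ₜ[C] ((1 - e) • ψ) := fun ψ => by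
          rw [← TensorProduct.smul_tmul, Algebra.smul_def, h1e, one_mul]
        rw [key φ, hφ, ← TensorProduct.smul_tmul, Algebra.smul_def, hσ, ← TensorProduct.smul_tmul,
          Algebra.smul_def, h1e, one_mul]
        show (b * a) • ((1 : D) ⊗ₜ[C] G) = _
        rw [TensorProduct.smul_tmul', smul_eq_mul, mul_one, mul_comm]
  exact Module.Invertible.congr (LinearEquiv.ofBijective Γ hΓ)

end Groth.Agent.QFDLib
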